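import Groth.Agent.Lib.Frob.Basic
import Groth.Agent.Lib.Frob.Perfect
import Groth.Agent.Lib.EtSite.RadicialEtale

/-!
# Etale schemes over perfect schemes are perfect, and perfection commutes with etale base change
-/

set_option autoImplicit false
set_option linter.all false
set_option backward.isDefEq.respectTransparency false

universe u

open CategoryTheory CategoryTheory.Limits AlgebraicGeometry

noncomputable section

namespace GrothLib.PerfEt10

variable {p : ℕ} [Fact p.Prime]

/-- An etale scheme over a perfect scheme is perfect. -/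
theorem isPerfect_of_etale {Z Y : Scheme.{u}} [FrobSch.IsCharP Z p] [FrobSch.IsCharP Y p]
    (hY : FrobSch.IsPerfect Y p) (g : Z ⟶ Y) [Etale g] : FrobSch.IsPerfect Z p := by
  haveI : Etale (pullback.snd g (FrobSch.frob Y p)) := MorphismProperty.pullback_snd _ _ inferInstance
  haveI : Etale (FrobSch.relFrob g p) :=
    MorphismProperty.of_postcomp (W := @Etale) (W' := @Etale) (FrobSch.relFrob g p)
      (pullback.snd g (FrobSch.frob Y p)) inferInstance (by rw [FrobSch.relFrob_snd]; infer_instance)
  haveI := Frob.universallyInjective_of _ (Frob.isUnivHomeo_relFrob (p := p) g)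
  haveI := Frob.surjective_of _ (Frob.isUnivHomeo_relFrob (p := p) g)
  haveI := EtSite.isOpenImmersion_of_etale_universallyInjective (FrobSch.relFrob g p)
  haveI : IsIso (FrobSch.relFrob g p) :=
    (isIso_iff_isOpenImmersion_and_surjective (f := FrobSch.relFrob g p)).2 ⟨inferInstance, inferInstance⟩
  haveI : IsIso (FrobSch.frob Y p) := hY
  show IsIso (FrobSch.frob Z p)
  rw [← FrobSch.relFrob_fst g p]
  infer_instance

/-- Perfection commutes with etale base change. -/
theorem isPullback_of_etale {X Y XP YP : Scheme.{u}}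
    [FrobSch.IsCharP X p] [FrobSch.IsCharP Y p] [FrobSch.IsCharP XP p] [FrobSch.IsCharP YP p]
    (πX : XP ⟶ X) (πY : YP ⟶ Y) (hX : FrobSch.IsPerfection πX p) (hY : FrobSch.IsPerfection πY p)
    (f : X ⟶ Y) (fP : XP ⟶ YP) (w : fP ≫ πY = πX ≫ f) [Etale f] : IsPullback fP πX πY f := by
  haveI : FrobSch.IsCharP (pullback πY f) p := FrobSch.IsCharP.of_hom (pullback.fst πY f) p
  haveI : Etale (pullback.fst πY f) := MorphismProperty.pullback_fst _ _ inferInstance
  have hZ : FrobSch.IsPerfect (pullback πY f) p := isPerfect_of_etale hY.1 (pullback.fst πY f)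
  obtain ⟨b, hb⟩ := (hX.2 (pullback πY f) hZ).2 (pullback.snd πY f)
  dsimp at hb
  have hb' : b ≫ fP = pullback.fst πY f := (hY.2 (pullback πY f) hZ).1 (by
    show (b ≫ fP) ≫ πY = pullback.fst πY f ≫ πY
    rw [Category.assoc, w, reassoc_of% hb, pullback.condition])
  have h1 : b ≫ pullback.lift fP πX w = 𝟙 _ := by
    apply pullback.hom_ext
    · rw [Category.assoc, pullback.lift_fst, hb', Category.id_comp]
    · rw [Category.assoc, pullback.lift_snd, hb, Category.id_comp]
  have h2 : pullback.lift fP πX w ≫ b = 𝟙 XP := (hX.2 XP hX.1).1 (by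
    show (pullback.lift fP πX w ≫ b) ≫ πX = 𝟙 XP ≫ πX
    rw [Category.assoc, hb, pullback.lift_snd, Category.id_comp])
  haveI : IsIso (pullback.lift fP πX w) := ⟨b, h2, h1⟩
  exact IsPullback.of_iso_pullback ⟨w⟩ (asIso (pullback.lift fP πX w)) (pullback.lift_fst _ _ _) (pullback.lift_snd _ _ _)

end GrothLib.PerfEt10
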